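import Groth.Prelude.Def_HilbD
import Groth.Agent.Lib.HilbD.Closed
import Groth.Agent.Lib.FibreDeg.Basic
import Mathlib.AlgebraicGeometry.AlgClosed.Basic
import Mathlib.Topology.JacobsonSpace

/-!
# Finite closed subschemes of a proper scheme over an algebraically closed field
-/

set_option autoImplicit false
set_option backward.isDefEq.respectTransparency false
set_option linter.style.haveILetI false

universe u

open CategoryTheory CategoryTheory.Limits AlgebraicGeometry Opposite TopologicalSpace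

noncomputable section

namespace Groth.Agent.Lib.Secant92.Fin

variable {k : Type u} [Field k]

/-- The structure map of global functions. -/
def str {T : Scheme.{u}} (p : T ⟶ Spec (CommRingCat.of k)) : k →+* Γ(T, ⊤) :=
  ((Scheme.ΓSpecIso (CommRingCat.of k)).inv ≫ p.appTop).hom

/-- Dimension of the global functions. -/
def dim {T : Scheme.{u}} (p : T ⟶ Spec (CommRingCat.of k)) : ℕ :=
  letI := (str p).toAlgebra
  Module.finrank k Γ(T, ⊤)

theorem finite_top {T : Scheme.{u}} (p : T ⟶ Spec (CommRingCat.of k)) [IsFinite p] :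
    IsAffine T ∧ (str p).Finite := by
  refine ⟨isAffine_of_isAffineHom p, ?_⟩
  exact RingHom.Finite.comp (IsFinite.finite_app p ⊤ (isAffineOpen_top _))
    (RingHom.Finite.of_surjective _
      (ConcreteCategory.bijective_of_isIso (Scheme.ΓSpecIso (CommRingCat.of k)).inv).2)

theorem finrank_eq_dim {T : Scheme.{u}} (p : T ⟶ Spec (CommRingCat.of k)) [IsFinite p]
    (s : Spec (CommRingCat.of k)) : p.finrank s = dim p := by
  obtain ⟨hT, hF⟩ := finite_top p
  let α : CommRingCat.of k ⟶ Γ(T, ⊤) := CommRingCat.ofHom (str p)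
  have key : p = T.isoSpec.hom ≫ Spec.map α := by
    have h := Scheme.isoSpec_hom_naturality p
    show _ = _ ≫ Spec.map ((Scheme.ΓSpecIso (CommRingCat.of k)).inv ≫ p.appTop)
    rw [Spec.map_comp, ← Category.assoc, h, Category.assoc]
    simp [Scheme.isoSpec_Spec_hom]
  letI := (str p).toAlgebra
  haveI : Module.Finite k Γ(T, ⊤) := RingHom.finite_algebraMap.1 hF
  have : IsFinite (Spec.map α) := (IsFinite.SpecMap_iff _).2 hF
  have := FibreDeg.Basic.flat_of_field (Spec.map α)
  have hα : α = CommRingCat.ofHom (algebraMap k Γ(T, ⊤)) := rfl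
  rw [congrFun (congrArg Scheme.Hom.finrank key) s,
    congrFun (Scheme.Hom.finrank_comp_left_of_isIso T.isoSpec.hom (Spec.map α)) s, hα,
    Scheme.Hom.finrank_SpecMap_algebraMap, Module.rankAtStalk_eq_finrank_of_free]
  rfl

theorem deg_iff {T : Scheme.{u}} (p : T ⟶ Spec (CommRingCat.of k)) (d : ℕ) :
    Mor2.IsFinLocFreeOfDeg d p ↔ IsFinite p ∧ dim p = d := by
  constructor
  · rintro ⟨⟨h, -, -⟩, hd⟩
    haveI := h
    exact ⟨h, (finrank_eq_dim p (IsLocalRing.closedPoint k)).symm.trans (hd _)⟩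
  · rintro ⟨h, hd⟩
    haveI := h
    exact ⟨⟨h, FibreDeg.Basic.flat_of_field p,
      LocallyOfFinitePresentation.iff_locallyOfFiniteType.2 inferInstance⟩,
      fun s => (finrank_eq_dim p s).trans hd⟩

theorem str_comp {T T' : Scheme.{u}} (p : T ⟶ Spec (CommRingCat.of k)) (g : T' ⟶ T)
    (c : k) : g.appTop (str p c) = str (g ≫ p) c := by
  simp only [str, Scheme.Hom.comp_appTop, CommRingCat.hom_comp, RingHom.comp_apply]

/-- Inverse image of functions, as a linear map. -/
def lin {T T' : Scheme.{u}} (p : T ⟶ Spec (CommRingCat.of k)) (g : T' ⟶ T)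
    (p' : T' ⟶ Spec (CommRingCat.of k)) (hg : g ≫ p = p') :
    letI := (str p).toAlgebra
    letI := (str p').toAlgebra
    Γ(T, ⊤) →ₗ[k] Γ(T', ⊤) :=
  letI := (str p).toAlgebra
  letI := (str p').toAlgebra
  { toFun := fun x => g.appTop x
    map_add' := map_add g.appTop.hom
    map_smul' := fun c x => by
      show g.appTop.hom (str p c * x) = str p' c * g.appTop.hom x
      rw [map_mul]
      congr 1
      rw [← hg]
      exact str_comp p g c }

variable {X : Scheme.{u}} (f : X ⟶ Spec (CommRingCat.of k))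

/-- The closed subscheme is finite over the field. -/
def IsFin (I : X.IdealSheafData) : Prop := IsFinite (I.subschemeι ≫ f)

/-- Its length. -/
def len (I : X.IdealSheafData) : ℕ := dim (I.subschemeι ≫ f)

/-- Functions on a smaller closed subscheme. -/
abbrev res {I J : X.IdealSheafData} (h : J ≤ I) : Γ(J.subscheme, ⊤) →+* Γ(I.subscheme, ⊤) :=
  (Scheme.IdealSheafData.inclusion h).appTop.hom

variable {f}

theorem IsFin.affine {I : X.IdealSheafData} (h : IsFin f I) : IsAffine I.subscheme :=
  haveI : IsFinite (I.subschemeι ≫ f) := h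
  isAffine_of_isAffineHom (I.subschemeι ≫ f)

theorem IsFin.mono {I J : X.IdealSheafData} (h : IsFin f J) (hle : J ≤ I) : IsFin f I := by
  haveI : IsFinite (J.subschemeι ≫ f) := h
  show IsFinite (I.subschemeι ≫ f)
  rw [← Scheme.IdealSheafData.inclusion_subschemeι hle, Category.assoc]
  infer_instance

theorem res_surjective {I J : X.IdealSheafData} (h : IsFin f J) (hle : J ≤ I) :
    Function.Surjective (res hle) := by
  haveI := h.affine
  exact (IsClosedImmersion.isAffine_surjective_of_isAffine (Scheme.IdealSheafData.inclusion hle)).2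

theorem len_le {I J : X.IdealSheafData} (h : IsFin f J) (hle : J ≤ I) : len f I ≤ len f J := by
  haveI : IsFinite (J.subschemeι ≫ f) := h
  letI := (str (J.subschemeι ≫ f)).toAlgebra
  letI := (str (I.subschemeι ≫ f)).toAlgebra
  haveI : Module.Finite k Γ(J.subscheme, ⊤) :=
    RingHom.finite_algebraMap.1 (finite_top (J.subschemeι ≫ f)).2
  exact (lin (J.subschemeι ≫ f) (Scheme.IdealSheafData.inclusion hle) (I.subschemeι ≫ f)
    (by rw [← Category.assoc, Scheme.IdealSheafData.inclusion_subschemeι])).finrank_le_finrank_of_surjective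
    (res_surjective h hle)

theorem eq_of_len_le {I J : X.IdealSheafData} (h : IsFin f J) (hle : J ≤ I)
    (hl : len f J ≤ len f I) : J = I := by
  haveI : IsFinite (J.subschemeι ≫ f) := h
  haveI : IsFinite (I.subschemeι ≫ f) := h.mono hle
  letI := (str (J.subschemeι ≫ f)).toAlgebra
  letI := (str (I.subschemeι ≫ f)).toAlgebra
  haveI : Module.Finite k Γ(J.subscheme, ⊤) :=
    RingHom.finite_algebraMap.1 (finite_top (J.subschemeι ≫ f)).2
  haveI : Module.Finite k Γ(I.subscheme, ⊤) :=
    RingHom.finite_algebraMap.1 (finite_top (I.subschemeι ≫ f)).2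
  let i := Scheme.IdealSheafData.inclusion hle
  have hsurj : Function.Surjective (res hle) := res_surjective h hle
  have hinj : Function.Injective (res hle) :=
    ((lin (J.subschemeι ≫ f) i (I.subschemeι ≫ f)
      (by rw [← Category.assoc, Scheme.IdealSheafData.inclusion_subschemeι])).injective_iff_surjective_of_finrank_eq_finrank
      (le_antisymm hl (len_le h hle))).2 hsurj
  haveI := h.affine
  haveI := (h.mono hle).affine
  haveI : IsIso i.appTop := (ConcreteCategory.isIso_iff_bijective _).2 ⟨hinj, hsurj⟩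
  haveI : IsIso i := by
    have : i = I.subscheme.isoSpec.hom ≫ Spec.map i.appTop ≫ J.subscheme.isoSpec.inv := by
      rw [Scheme.isoSpec_hom_naturality_assoc, Iso.hom_inv_id, Category.comp_id]
    rw [this]
    infer_instance
  have h1 := Scheme.Hom.ker_comp_of_isIso i J.subschemeι
  rw [Scheme.IdealSheafData.inclusion_subschemeι, Scheme.IdealSheafData.ker_subschemeι,
    Scheme.IdealSheafData.ker_subschemeι] at h1
  exact h1.symm

theorem ker_inclusion {I J : X.IdealSheafData} (hle : J ≤ I) :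
    (Scheme.IdealSheafData.inclusion hle).ker = I.comap J.subschemeι := by
  conv_rhs => rw [← Scheme.IdealSheafData.ker_subschemeι (I := I),
    ← Scheme.IdealSheafData.inclusion_subschemeι hle, ← Scheme.IdealSheafData.map_ker]
  exact (HilbD.Closed.comap_map J.subschemeι).symm

theorem ker_res {I J : X.IdealSheafData} (h : IsFin f J) (hle : J ≤ I) :
    RingHom.ker (res hle) =
      (I.comap J.subschemeι).ideal ⟨⊤, haveI := h.affine; isAffineOpen_top _⟩ := by
  rw [← ker_inclusion hle, Scheme.Hom.ker_apply]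

theorem ker_res_inf {Ia Ib : X.IdealSheafData} (h : IsFin f (Ia ⊓ Ib)) :
    RingHom.ker (res (inf_le_left : Ia ⊓ Ib ≤ Ia)) ⊓ RingHom.ker (res (inf_le_right : Ia ⊓ Ib ≤ Ib)) = ⊥ := by
  haveI := h.affine
  let m := (Ia ⊓ Ib).subschemeι
  have h0 : Ia.comap m ⊓ Ib.comap m = ⊥ := by
    have e : ∀ {K : X.IdealSheafData}, Ia ⊓ Ib ≤ K → (K.comap m).map m = K := fun {K} hK => by
      rw [← ker_inclusion hK, Scheme.IdealSheafData.map_ker,
        Scheme.IdealSheafData.inclusion_subschemeι, Scheme.IdealSheafData.ker_subschemeι]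
    have h1 := congrArg (fun K => K.comap m) (Scheme.IdealSheafData.map_inf (I₁ := Ia.comap m)
      (I₂ := Ib.comap m) (f := m))
    simp only [e inf_le_left, e inf_le_right, HilbD.Closed.comap_map] at h1
    rw [h1, ← le_bot_iff, ← Scheme.IdealSheafData.le_map_iff_comap_le, Scheme.IdealSheafData.map_bot,
      Scheme.IdealSheafData.ker_subschemeι]
  rw [ker_res h, ker_res h]
  have h2 := congrArg (fun K => K.ideal ⟨⊤, isAffineOpen_top _⟩) h0
  simpa [Scheme.IdealSheafData.ideal_inf] using h2

theorem ker_res_sup {Ia Ib : X.IdealSheafData} (h : IsFin f (Ia ⊓ Ib)) :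
    RingHom.ker (res (inf_le_sup : Ia ⊓ Ib ≤ Ia ⊔ Ib)) =
      RingHom.ker (res (inf_le_left : Ia ⊓ Ib ≤ Ia)) ⊔ RingHom.ker (res (inf_le_right : Ia ⊓ Ib ≤ Ib)) := by
  rw [ker_res h, ker_res h, ker_res h, Scheme.IdealSheafData.comap_sup, Scheme.IdealSheafData.ideal_sup]
  rfl

variable [IsProper f]

theorem finite_support {I : X.IdealSheafData} (h : IsFin f I) : (I.support : Set X).Finite := by
  haveI : IsFinite (I.subschemeι ≫ f) := h
  rw [← Scheme.IdealSheafData.range_subschemeι]
  have h1 := (I.subschemeι ≫ f).finite_preimage_singleton (IsLocalRing.closedPoint k)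
  have h2 : Finite I.subscheme := Set.finite_univ_iff.1 (h1.subset fun x _ => Subsingleton.elim _ _)
  exact Set.finite_range _

theorem isFin_of_finite {I : X.IdealSheafData} (h : (I.support : Set X).Finite) : IsFin f I := by
  have hq : LocallyQuasiFinite (I.subschemeι ≫ f) := by
    refine locallyQuasiFinite_iff_finite_preimage_singleton.2 fun x => Set.Finite.subset ?_ (Set.subset_univ _)
    have hinj : Function.Injective I.subschemeι := I.subschemeι.isClosedEmbedding.injective
    refine (h.preimage hinj.injOn).subset fun y _ => ?_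
    exact (Scheme.IdealSheafData.range_subschemeι I).le ⟨y, rfl⟩
  show IsFinite (I.subschemeι ≫ f)
  exact IsFinite.of_isProper_of_locallyQuasiFinite _

theorem isFin_inf {Ia Ib : X.IdealSheafData} (ha : IsFin f Ia) (hb : IsFin f Ib) :
    IsFin f (Ia ⊓ Ib) := by
  refine isFin_of_finite (((finite_support ha).union (finite_support hb)).subset ?_)
  have h1 : Ia * Ib ≤ Ia ⊓ Ib := fun U => by
    rw [Scheme.IdealSheafData.ideal_inf, Scheme.IdealSheafData.ideal_mul]
    exact Ideal.mul_le_inf
  have h2 := Scheme.IdealSheafData.support_antitone h1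
  rw [Scheme.IdealSheafData.support_mul] at h2
  exact h2

theorem len_inf_le {Ia Ib : X.IdealSheafData} (ha : IsFin f Ia) (hb : IsFin f Ib) :
    len f (Ia ⊓ Ib) ≤ len f Ia + len f Ib := by
  have h := isFin_inf ha hb
  haveI : IsFinite ((Ia ⊓ Ib).subschemeι ≫ f) := h
  haveI : IsFinite (Ia.subschemeι ≫ f) := ha
  haveI : IsFinite (Ib.subschemeι ≫ f) := hb
  letI := (str ((Ia ⊓ Ib).subschemeι ≫ f)).toAlgebra
  letI := (str (Ia.subschemeι ≫ f)).toAlgebra
  letI := (str (Ib.subschemeι ≫ f)).toAlgebra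
  haveI : Module.Finite k Γ(Ia.subscheme, ⊤) :=
    RingHom.finite_algebraMap.1 (finite_top (Ia.subschemeι ≫ f)).2
  haveI : Module.Finite k Γ(Ib.subscheme, ⊤) :=
    RingHom.finite_algebraMap.1 (finite_top (Ib.subschemeι ≫ f)).2
  let φ := (lin ((Ia ⊓ Ib).subschemeι ≫ f) (Scheme.IdealSheafData.inclusion inf_le_left)
      (Ia.subschemeι ≫ f) (by rw [← Category.assoc, Scheme.IdealSheafData.inclusion_subschemeι])).prod
    (lin ((Ia ⊓ Ib).subschemeι ≫ f) (Scheme.IdealSheafData.inclusion inf_le_right)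
      (Ib.subschemeι ≫ f) (by rw [← Category.assoc, Scheme.IdealSheafData.inclusion_subschemeι]))
  have hφ : Function.Injective φ := by
    rw [injective_iff_map_eq_zero]
    intro x hx
    have := (ker_res_inf h).le (x := x) ⟨congrArg Prod.fst hx, congrArg Prod.snd hx⟩
    exact this
  exact (LinearMap.finrank_le_finrank_of_injective hφ).trans_eq Module.finrank_prod

theorem len_inf_eq {Ia Ib : X.IdealSheafData} (ha : IsFin f Ia) (hb : IsFin f Ib)
    (hd : Ia ⊔ Ib = ⊤) : len f (Ia ⊓ Ib) = len f Ia + len f Ib := by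
  refine le_antisymm (len_inf_le ha hb) ?_
  have h := isFin_inf ha hb
  haveI : IsFinite ((Ia ⊓ Ib).subschemeι ≫ f) := h
  letI := (str ((Ia ⊓ Ib).subschemeι ≫ f)).toAlgebra
  letI := (str (Ia.subschemeι ≫ f)).toAlgebra
  letI := (str (Ib.subschemeι ≫ f)).toAlgebra
  haveI : Module.Finite k Γ((Ia ⊓ Ib).subscheme, ⊤) :=
    RingHom.finite_algebraMap.1 (finite_top ((Ia ⊓ Ib).subschemeι ≫ f)).2
  haveI : IsFinite (Ia.subschemeι ≫ f) := ha
  haveI : IsFinite (Ib.subschemeι ≫ f) := hb
  haveI : Module.Finite k Γ(Ia.subscheme, ⊤) :=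
    RingHom.finite_algebraMap.1 (finite_top (Ia.subschemeι ≫ f)).2
  haveI : Module.Finite k Γ(Ib.subscheme, ⊤) :=
    RingHom.finite_algebraMap.1 (finite_top (Ib.subschemeι ≫ f)).2
  let φ := (lin ((Ia ⊓ Ib).subschemeι ≫ f) (Scheme.IdealSheafData.inclusion inf_le_left)
      (Ia.subschemeι ≫ f) (by rw [← Category.assoc, Scheme.IdealSheafData.inclusion_subschemeι])).prod
    (lin ((Ia ⊓ Ib).subschemeι ≫ f) (Scheme.IdealSheafData.inclusion inf_le_right)
      (Ib.subschemeι ≫ f) (by rw [← Category.assoc, Scheme.IdealSheafData.inclusion_subschemeι]))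
  have htop : RingHom.ker (res (inf_le_left : Ia ⊓ Ib ≤ Ia)) ⊔
      RingHom.ker (res (inf_le_right : Ia ⊓ Ib ≤ Ib)) = ⊤ := by
    rw [← ker_res_sup h, ker_res h, hd, Scheme.IdealSheafData.comap_top,
      Scheme.IdealSheafData.ideal_top]
    rfl
  have hφ : Function.Surjective φ := by
    rintro ⟨y, z⟩
    obtain ⟨a, ha'⟩ := res_surjective h inf_le_left y
    obtain ⟨b, hb'⟩ := res_surjective h inf_le_right z
    obtain ⟨p, hp, q, hq, hpq⟩ := Submodule.mem_sup.1 (htop.ge (x := a - b) trivial)
    refine ⟨a - p, Prod.ext ?_ ?_⟩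
    · show res (inf_le_left : Ia ⊓ Ib ≤ Ia) (a - p) = y
      rw [map_sub, RingHom.mem_ker.1 hp, sub_zero, ha']
    · show res (inf_le_right : Ia ⊓ Ib ≤ Ib) (a - p) = z
      rw [show a - p = b + q by linear_combination -hpq,
        map_add, RingHom.mem_ker.1 hq, add_zero, hb']
  exact (Module.finrank_prod (R := k) (M := Γ(Ia.subscheme, ⊤)) (M' := Γ(Ib.subscheme, ⊤))).ge.trans
    (φ.finrank_le_finrank_of_surjective hφ)

variable [IsAlgClosed k]

theorem dim_of_isIso {T : Scheme.{u}} (p : T ⟶ Spec (CommRingCat.of k)) [IsIso p] : dim p = 1 := by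
  letI := (str p).toAlgebra
  have hb : Function.Bijective (Algebra.linearMap k Γ(T, ⊤)) :=
    ConcreteCategory.bijective_of_isIso ((Scheme.ΓSpecIso (CommRingCat.of k)).inv ≫ p.appTop)
  exact (LinearEquiv.ofBijective _ hb).finrank_eq.symm.trans (Module.finrank_self k)

theorem isFin_pt (p : Spec (CommRingCat.of k) ⟶ X) (hp : p ≫ f = 𝟙 _) :
    IsFin f p.ker ∧ len f p.ker = 1 := by
  haveI : IsClosedImmersion (p ≫ f) := by rw [hp]; infer_instance
  haveI : IsClosedImmersion p := IsClosedImmersion.of_comp p f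
  have e : p.toImage ≫ (p.ker.subschemeι ≫ f) = 𝟙 _ :=
    (Category.assoc _ _ _).symm.trans ((congrArg (· ≫ f) p.toImage_imageι).trans hp)
  haveI : IsIso (p.toImage ≫ (p.ker.subschemeι ≫ f)) := e ▸ inferInstance
  haveI : IsIso (p.ker.subschemeι ≫ f) := IsIso.of_isIso_comp_left p.toImage _
  exact ⟨show IsFinite _ from inferInstance, dim_of_isIso _⟩

theorem exists_pt {x : X} (hx : IsClosed ({x} : Set X)) :
    ∃ p : Spec (CommRingCat.of k) ⟶ X, p ≫ f = 𝟙 _ ∧ (p.ker.support : Set X) ⊆ {x} := by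
  refine ⟨pointOfClosedPoint f x hx, pointOfClosedPoint_comp f x hx, ?_⟩
  haveI : IsClosedImmersion (pointOfClosedPoint f x hx ≫ f) := by
    rw [pointOfClosedPoint_comp]; infer_instance
  haveI : IsClosedImmersion (pointOfClosedPoint f x hx) := IsClosedImmersion.of_comp _ f
  rw [Scheme.Hom.support_ker]
  exact closure_minimal (Set.range_subset_iff.2 fun a => pointOfClosedPoint_apply f x hx a) hx

theorem infinite_closed [IsIntegral X] {I : X.IdealSheafData} (h : IsFin f I) (hl : 2 ≤ len f I) :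
    (closedPoints X).Infinite := by
  intro hfin
  haveI : JacobsonSpace X := LocallyOfFiniteType.jacobsonSpace f
  have hclosed : IsClosed (closedPoints X) := by
    rw [← Set.biUnion_of_singleton (closedPoints X)]
    exact hfin.isClosed_biUnion fun x hx => hx
  have huniv : closedPoints X = Set.univ := hclosed.closure_eq.symm.trans closure_closedPoints
  rw [huniv] at hfin
  have hb : IsFin f ⊥ := isFin_of_finite (hfin.subset (Set.subset_univ _))
  haveI : IsFinite ((⊥ : X.IdealSheafData).subschemeι ≫ f) := hb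
  haveI : IsDomain Γ((⊥ : X.IdealSheafData).subscheme, ⊤) :=
    (asIso (⊥ : X.IdealSheafData).subschemeι.appTop).commRingCatIsoToRingEquiv.symm.toMulEquiv.isDomain Γ(X, ⊤)
  letI := (str ((⊥ : X.IdealSheafData).subschemeι ≫ f)).toAlgebra
  haveI : Module.Finite k Γ((⊥ : X.IdealSheafData).subscheme, ⊤) :=
    RingHom.finite_algebraMap.1 (finite_top ((⊥ : X.IdealSheafData).subschemeι ≫ f)).2
  have hbij : Function.Bijective (Algebra.linearMap k Γ((⊥ : X.IdealSheafData).subscheme, ⊤)) :=
    IsAlgClosed.algebraMap_bijective_of_isIntegral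
  have h1 : len f ⊥ = 1 :=
    (LinearEquiv.ofBijective _ hbij).finrank_eq.symm.trans (Module.finrank_self k)
  have h2 := len_le hb (bot_le (a := I))
  omega

theorem exists_extend (hinf : (closedPoints X).Infinite) {J : X.IdealSheafData} (hJ : IsFin f J)
    {N : ℕ} (hN : len f J ≤ N) : ∃ K, K ≤ J ∧ IsFin f K ∧ len f K = N := by
  induction N, hN using Nat.le_induction with
  | base => exact ⟨J, le_rfl, hJ, rfl⟩
  | succ N _ ih =>
    obtain ⟨K, hK, hKf, hKl⟩ := ih
    obtain ⟨x, hx, hxK⟩ := (hinf.sdiff (finite_support hKf)).nonempty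
    obtain ⟨p, hp, hps⟩ := exists_pt (f := f) hx
    obtain ⟨hpf, hpl⟩ := isFin_pt p hp
    have hd : K ⊔ p.ker = ⊤ := by
      rw [← Scheme.IdealSheafData.support_eq_bot_iff, Scheme.IdealSheafData.support_sup]
      refine le_bot_iff.1 fun y hy => ?_
      exact hxK ((hps hy.2 : y = x) ▸ hy.1)
    exact ⟨K ⊓ p.ker, inf_le_left.trans hK, isFin_inf hKf hpf, by rw [len_inf_eq hKf hpf hd, hKl, hpl]⟩

end Groth.Agent.Lib.Secant92.Fin
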