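import Groth.Agent.Lib.Secant92.Main

/-!
# Injectivity of the secant map off the lower secant variety
-/

set_option autoImplicit false
set_option backward.isDefEq.respectTransparency false
set_option linter.style.haveILetI false

universe u

open CategoryTheory CategoryTheory.Limits AlgebraicGeometry Opposite TopologicalSpace

noncomputable section

namespace Groth.Agent.Lib.Secant92

open Groth.Agent.Lib

variable {k : Type u} [Field k] [IsAlgClosed k] {X : Scheme.{u}}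
  {f : X ⟶ Spec (CommRingCat.of k)} [IsProper f] {L : X.Modules}

/-- Sections restrict surjectively to the finite closed subschemes of length `N`. -/
def SurjAt (f : X ⟶ Spec (CommRingCat.of k)) (L : X.Modules) (N : ℕ) : Prop :=
  ∀ K : X.IdealSheafData, Fin.IsFin f K → Fin.len f K = N → Function.Surjective (ps K.subschemeι L)

theorem surjective_ps_factor {T' T B : Scheme.{u}} (i : T' ⟶ T) (g : T ⟶ B) {h : T' ⟶ B} (e : i ≫ g = h)
    (M : B.Modules) (hg : Function.Surjective (ps g M))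
    (hi : Function.Surjective (ps i ((Scheme.Modules.pullback g).obj M))) :
    Function.Surjective (ps h M) := by
  subst e
  intro y
  obtain ⟨y', rfl⟩ := (ConcreteCategory.bijective_of_isIso
    (((Scheme.Modules.pullbackComp i g).hom.app M).app ⊤)).2 y
  obtain ⟨z, rfl⟩ := hi y'
  obtain ⟨s, rfl⟩ := hg z
  exact ⟨s, (ps_comp i g M s).symm⟩

theorem surjective_ps_of_va {N : ℕ} (hva : SurjAt f L N)
    (hinf : (closedPoints X).Infinite) (hL : FlatMod.IsFinLocFreeOfRank 1 L) {J : X.IdealSheafData}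
    (hJ : Fin.IsFin f J) (hl : Fin.len f J ≤ N) :
    Function.Surjective (ps J.subschemeι L) := by
  obtain ⟨K, hK, hKf, hKl⟩ := Fin.exists_extend hinf hJ hl
  have hs : Function.Surjective (ps K.subschemeι L) := hva K hKf hKl
  exact surjective_ps_factor _ _ (Scheme.IdealSheafData.inclusion_subschemeι hK) L hs
    (surjective_ps_closed hL hKf hK)

theorem val_smul {P : Scheme.{u}} {π : P ⟶ Spec (CommRingCat.of k)} {O1 : P.Modules}
    {V : (Spec (CommRingCat.of k)).Modules} {qP : (Scheme.Modules.pullback π).obj V ⟶ O1}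
    (x : Spec (CommRingCat.of k) ⟶ P) (hx : x ≫ π = 𝟙 _) (r : Γ(Spec (CommRingCat.of k), ⊤))
    (v : Γ(V, ⊤)) : val x qP (r • v) = r • val x qP v := by
  show ps x O1 (qP.app ⊤ (ps π V (r • v))) = r • ps x O1 (qP.app ⊤ (ps π V v))
  rw [ps_smul π V, Scheme.Modules.Hom.app_smul, ps_smul x O1]
  congr 1
  show (π.app ⊤ ≫ x.app (π ⁻¹ᵁ ⊤)) r = r
  rw [← Scheme.Hom.comp_app, Scheme.Hom.congr_app hx ⊤]
  simp

theorem sig_smul {H : Over (Spec (CommRingCat.of k))} {m : ℕ} {Z : HilbD.Obj f m H}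
    (ξ : Spec (CommRingCat.of k) ⟶ H.left) (hξ : ξ ≫ H.hom = 𝟙 _)
    (r : Γ(Spec (CommRingCat.of k), ⊤)) (v : Γ(((Scheme.Modules.pushforward f).obj L), ⊤)) :
    sig f H Z L ξ (r • v) = r • sig f H Z L ξ v := by
  show ps ξ _ ((TautSh.evalMap f H Z.1 L).app ⊤ (ps H.hom ((Scheme.Modules.pushforward f).obj L) (r • v))) =
    r • ps ξ _ ((TautSh.evalMap f H Z.1 L).app ⊤ (ps H.hom ((Scheme.Modules.pushforward f).obj L) v))
  rw [ps_smul H.hom ((Scheme.Modules.pushforward f).obj L), Scheme.Modules.Hom.app_smul, ps_smul ξ]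
  congr 1
  show (H.hom.app ⊤ ≫ ξ.app (H.hom ⁻¹ᵁ ⊤)) r = r
  rw [← Scheme.Hom.comp_app, Scheme.Hom.congr_app hξ ⊤]
  simp

variable {n : ℕ} {H : Over (Spec (CommRingCat.of k))} {Z : HilbD.Obj f (n + 1) H}
  (hU : HilbD.IsUniversal f (n + 1) H Z) {PE : Scheme.{u}} {πE : PE ⟶ H.left} {OE : PE.Modules}
  {qE : (Scheme.Modules.pullback πE).obj (TautSh.taut f H Z.1 L) ⟶ OE}
  (hPE : KRR.IsProjBundle πE (TautSh.taut f H Z.1 L) OE qE)
  {P : Scheme.{u}} {π : P ⟶ Spec (CommRingCat.of k)} {O1 : P.Modules}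
  {qP : (Scheme.Modules.pullback π).obj ((Scheme.Modules.pushforward f).obj L) ⟶ O1}
  {h : PE ⟶ P}
  (hh : TautSh.IsMapOfQuot π ((Scheme.Modules.pushforward f).obj L) O1 qP (πE ≫ H.hom) OE (TautSh.secantQuot f H Z.1 L πE OE qE) h)

include hU hPE hh

/-- Two rational points with the same image are equal, or their common quotient factors through
a subscheme of length one less. -/
theorem eq_or_exists (hL : FlatMod.IsFinLocFreeOfRank 1 L)
    (hva : SurjAt f L (2 * n + 2)) (hinf : (closedPoints X).Infinite)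
    (a b : Spec (CommRingCat.of k) ⟶ PE) (ha : a ≫ πE ≫ H.hom = 𝟙 _) (hb : b ≫ πE ≫ H.hom = 𝟙 _)
    (hab : a ≫ h = b ≫ h) :
    (a = b) ∨ ((∃ s, val (a ≫ h) qP s ≠ 0) ∧ ∃ Id : X.IdealSheafData, Fin.IsFin f Id ∧
      Fin.len f Id = n ∧ ∀ s : Γ(L, ⊤), ps Id.subschemeι L s = 0 → val (a ≫ h) qP s = 0) := by
  have key : ∀ (x : Spec (CommRingCat.of k) ⟶ PE) (hx : (x ≫ πE) ≫ H.hom = 𝟙 _),
      (∀ s, val (x ≫ h) qP s = 0 ↔
        (quot qE x rfl).app ⊤ (sig f H Z L (x ≫ πE) s) = 0) ∧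
      Function.Surjective (sig f H Z L (x ≫ πE)) ∧
      (∀ s : Γ(L, ⊤), ps (idl f H Z (x ≫ πE) hx).subschemeι L s = 0 → val (x ≫ h) qP s = 0) := by
    intro x hx
    obtain ⟨hf, hl⟩ := deg_idl f H Z (x ≫ πE) hx
    obtain ⟨h1, h2⟩ := sig_spec f H Z L (x ≫ πE) hx hL
    have h3 : ∀ s, val (x ≫ h) qP s = 0 ↔
        (quot qE x rfl).app ⊤ (sig f H Z L (x ≫ πE) s) = 0 := fun s => by
      rw [secant_val_zero hh x s, sig, AddMonoidHom.comp_apply, quot_ps]
    refine ⟨h3, h2 (surjective_ps_of_va hva hinf hL hf (by omega)), fun s hs => ?_⟩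
    rw [h3, (h1 s).2 hs, map_zero]
  have ha' : (a ≫ πE) ≫ H.hom = 𝟙 _ := by rw [Category.assoc]; exact ha
  have hb' : (b ≫ πE) ≫ H.hom = 𝟙 _ := by rw [Category.assoc]; exact hb
  obtain ⟨ka, sa, va⟩ := key a ha'
  obtain ⟨kb, sb, vb⟩ := key b hb'
  obtain ⟨hfa, hla⟩ := deg_idl f H Z (a ≫ πE) ha'
  obtain ⟨hfb, hlb⟩ := deg_idl f H Z (b ≫ πE) hb'
  by_cases hI : idl f H Z (a ≫ πE) ha' = idl f H Z (b ≫ πE) hb'
  · left
    have hξ : b ≫ πE = a ≫ πE := (eq_of_idl hU ha' hb' hI).symm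
    refine pb_ext hPE (g := a ≫ πE) ?_ rfl hξ fun v hv => ?_
    · intro y
      obtain ⟨s, rfl⟩ := sa y
      exact ⟨_, rfl⟩
    · obtain ⟨s, hs⟩ := sa (ps (a ≫ πE) _ v)
      have h1 : val (a ≫ h) qP s = 0 := by
        rw [ka, hs, quot_ps]; exact hv
      rw [hab, secant_val_zero hh b s] at h1
      rw [← quot_ps b hξ, ← hs]
      show (quot qE b hξ).app ⊤ (ps (a ≫ πE) _ (ev f H Z L s)) = 0
      rw [quot_ps]; exact h1
  · right
    constructor
    · haveI := epi_quot hPE a (g := a ≫ πE) rfl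
      obtain ⟨y, hy⟩ := exists_app_ne_zero (TensorMod.LocFree.rank_pullback a hPE.invertible)
        (quot qE a rfl)
      obtain ⟨s, rfl⟩ := sa y
      exact ⟨s, fun h0 => hy ((ka s).1 h0)⟩
    · set Ia := idl f H Z (a ≫ πE) ha'
      set Ib := idl f H Z (b ≫ πE) hb'
      have hJ := Fin.isFin_inf hfa hfb
      have hJl := Fin.len_inf_le hfa hfb
      have hc : Fin.IsFin f (Ia ⊔ Ib) := hfa.mono le_sup_left
      have hcl : Fin.len f (Ia ⊔ Ib) ≤ n := by
        by_contra hlt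
        push_neg at hlt
        exact hI ((Fin.eq_of_len_le hfa le_sup_left (by omega)).trans
          (Fin.eq_of_len_le hfb le_sup_right (by omega)).symm)
      obtain ⟨Id, hd, hdf, hdl⟩ := Fin.exists_extend hinf hc hcl
      refine ⟨Id, hdf, hdl, fun s hs => ?_⟩
      have hs' : ps (Ia ⊔ Ib).subschemeι L s = 0 := by
        rw [← ps_congr_zero (Scheme.IdealSheafData.inclusion_subschemeι hd)]
        exact ps_zero_of_comp _ _ _ _ hs
      exact exists_decomp hL hfa hfb (surjective_ps_of_va hva hinf hL hJ (by omega))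
        (val (a ≫ h) qP).ker (fun t ht => va t ht)
        (fun t ht => by show val (a ≫ h) qP t = 0; rw [hab]; exact vb t ht) s hs'

omit hU hPE hh

omit [IsProper f] in
theorem comp_point {a : Spec (CommRingCat.of k) ⟶ PE}
    (hh : TautSh.IsMapOfQuot π ((Scheme.Modules.pushforward f).obj L) O1 qP (πE ≫ H.hom) OE
      (TautSh.secantQuot f H Z.1 L πE OE qE) h)
    (ha : a ≫ πE ≫ H.hom = 𝟙 _) : (a ≫ h) ≫ π = 𝟙 _ := by
  obtain ⟨hg, -⟩ := hh
  rw [Category.assoc, hg, ha]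

variable {m : ℕ} {H' : Over (Spec (CommRingCat.of k))} {Z' : HilbD.Obj f m H'}
  {PE' : Scheme.{u}} {πE' : PE' ⟶ H'.left} {OE' : PE'.Modules}
  {qE' : (Scheme.Modules.pullback πE').obj (TautSh.taut f H' Z'.1 L) ⟶ OE'} {h' : PE' ⟶ P}

/-- A quotient of sections factoring through a subscheme of length `m` comes from a point of the
projective bundle of the tautological sheaf. -/
theorem exists_lower (hU' : HilbD.IsUniversal f m H' Z')
    (hPE' : KRR.IsProjBundle πE' (TautSh.taut f H' Z'.1 L) OE' qE')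
    (hP : KRR.IsProjBundle π ((Scheme.Modules.pushforward f).obj L) O1 qP)
    (hh' : TautSh.IsMapOfQuot π ((Scheme.Modules.pushforward f).obj L) O1 qP (πE' ≫ H'.hom) OE'
      (TautSh.secantQuot f H' Z'.1 L πE' OE' qE') h')
    (hL : FlatMod.IsFinLocFreeOfRank 1 L) {N : ℕ} (hva : SurjAt f L N) (hm : m ≤ N)
    (hinf : (closedPoints X).Infinite) {Id : X.IdealSheafData} (hd : Fin.IsFin f Id)
    (hl : Fin.len f Id = m) (x : Spec (CommRingCat.of k) ⟶ P) (hx : x ≫ π = 𝟙 _)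
    (hne : ∃ s, val x qP s ≠ 0)
    (hker : ∀ s : Γ(L, ⊤), ps Id.subschemeι L s = 0 → val x qP s = 0) :
    ∃ c : Spec (CommRingCat.of k) ⟶ PE', c ≫ πE' ≫ H'.hom = 𝟙 _ ∧ c ≫ h' = x := by
  obtain ⟨ξ, hξ, rfl⟩ := exists_point hU' hd hl
  obtain ⟨h1, h2⟩ := sig_spec f H' Z' L ξ hξ hL
  have hs := h2 (surjective_ps_of_va hva hinf hL hd (hl.le.trans hm))
  obtain ⟨g, hg⟩ := exists_gen_pt (TensorMod.LocFree.rank_pullback x hP.invertible)
  choose pre hpre using hs
  choose cf hcf using hg.2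
  obtain ⟨l₀, hl₀⟩ : ∃ l₀ : Γ((Scheme.Modules.pullback ξ).obj (TautSh.taut f H' Z'.1 L), ⊤) →
      Γ(Spec (CommRingCat.of k), ⊤), ∀ y, l₀ y • g = val x qP (pre y) :=
    ⟨fun y => cf (val x qP (pre y)), fun y => hcf _⟩
  have hdef : ∀ s t, sig f H' Z' L ξ s = sig f H' Z' L ξ t → val x qP s = val x qP t := by
    intro s t hst
    rw [← sub_eq_zero, ← map_sub]
    exact hker _ ((h1 _).1 (by rw [map_sub, hst, sub_self]))
  have hadd : ∀ y z, l₀ (y + z) = l₀ y + l₀ z := fun y z => by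
    refine hg.1 ?_
    show l₀ (y + z) • g = (l₀ y + l₀ z) • g
    rw [add_smul, hl₀, hl₀, hl₀, ← map_add (val x qP)]
    exact hdef _ _ (by rw [map_add, hpre, hpre, hpre])
  have hlin : ∀ (r : Γ(Spec (CommRingCat.of k), ⊤)) y, l₀ (r • y) = r * l₀ y := fun r y => by
    refine hg.1 ?_
    show l₀ (r • y) • g = (r * l₀ y) • g
    rw [mul_smul, hl₀, hl₀, ← val_smul x hx]
    exact hdef _ _ (by rw [hpre, sig_smul ξ hξ, hpre])
  have hl₁ : ∀ s, l₀ (sig f H' Z' L ξ s) = 0 ↔ val x qP s = 0 := fun s => by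
    have e : l₀ (sig f H' Z' L ξ s) • g = val x qP s := (hl₀ _).trans (hdef _ _ (hpre _))
    constructor
    · intro h0; rw [← e, h0, zero_smul]
    · intro h0; exact hg.1 (e.trans (h0.trans (zero_smul _ g).symm))
  obtain ⟨s₀, hs₀⟩ := hne
  obtain ⟨c, hc, hval⟩ := pb_exists hPE' (AddMonoidHom.mk' l₀ hadd) hlin
    ⟨_, fun h0 => hs₀ ((hl₁ s₀).1 h0)⟩
  have hc' : c ≫ πE' ≫ H'.hom = 𝟙 _ := by rw [← Category.assoc, hc, hξ]
  have hch : (c ≫ h') ≫ π = 𝟙 _ := by
    obtain ⟨hg', -⟩ := id hh'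
    rw [Category.assoc, hg', hc']
  refine ⟨c, hc', pb_ext hP (g := 𝟙 _) (surjective_ps_id ((Scheme.Modules.pushforward f).obj L)) hch hx
    fun s hs' => ?_⟩
  rw [secant_val_zero hh' c s, hval] at hs'
  exact (hl₁ s).1 hs'

theorem exists_point_of_len_one {I : X.IdealSheafData} (hI : Fin.IsFin f I) (hl : Fin.len f I = 1) :
    ∃ x : Spec (CommRingCat.of k) ⟶ X, x ≫ f = 𝟙 _ ∧
      ∀ (M : X.Modules) (s : Γ(M, ⊤)), ps x M s = 0 → ps I.subschemeι M s = 0 := by
  haveI : IsFinite (I.subschemeι ≫ f) := hI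
  haveI := hI.affine
  letI := (Fin.str (I.subschemeι ≫ f)).toAlgebra
  haveI : Module.Finite k Γ(I.subscheme, ⊤) :=
    RingHom.finite_algebraMap.1 (Fin.finite_top (I.subschemeι ≫ f)).2
  have hl' : Module.finrank k Γ(I.subscheme, ⊤) = 1 := hl
  haveI : Nontrivial Γ(I.subscheme, ⊤) := Module.nontrivial_of_finrank_eq_succ (R := k) hl'
  have hb : Function.Bijective (algebraMap k Γ(I.subscheme, ⊤)) := by
    refine ⟨(algebraMap k _).injective, ?_⟩
    exact (((Algebra.linearMap k Γ(I.subscheme, ⊤)).injective_iff_surjective_of_finrank_eq_finrank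
      ((Module.finrank_self k).trans hl'.symm)).1 (algebraMap k _).injective)
  haveI : IsIso ((Scheme.ΓSpecIso (CommRingCat.of k)).inv ≫ (I.subschemeι ≫ f).appTop) :=
    (ConcreteCategory.isIso_iff_bijective _).2 hb
  haveI : IsIso (I.subschemeι ≫ f).appTop :=
    IsIso.of_isIso_comp_left (Scheme.ΓSpecIso (CommRingCat.of k)).inv _
  haveI : IsIso (I.subschemeι ≫ f) := by
    have : I.subschemeι ≫ f = I.subscheme.isoSpec.hom ≫ Spec.map (I.subschemeι ≫ f).appTop ≫
        (Spec (CommRingCat.of k)).isoSpec.inv := by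
      rw [Scheme.isoSpec_hom_naturality_assoc, Iso.hom_inv_id, Category.comp_id]
    rw [this]
    infer_instance
  refine ⟨inv (I.subschemeι ≫ f) ≫ I.subschemeι, by simp, fun M s hs => ?_⟩
  rw [← ps_congr_zero (show (I.subschemeι ≫ f) ≫ inv (I.subschemeι ≫ f) ≫ I.subschemeι = I.subschemeι by
    rw [IsIso.hom_inv_id_assoc])]
  exact ps_zero_of_comp _ _ _ _ hs

theorem surjAt_of_isKVeryAmple {k : Type u} [Field k] {X : Scheme.{u}} [X.Over (Spec (CommRingCat.of k))]
    {L : X.Modules} {M : ℕ} (h : TautSh.IsKVeryAmple k X L M) :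
    SurjAt (X ↘ Spec (CommRingCat.of k)) L (M + 1) :=
  fun K hK hl => h K ((Fin.deg_iff _ _).2 ⟨hK, hl⟩)

theorem infinite_closed_of_dim {k : Type u} [Field k] {X : Scheme.{u}} {f : X ⟶ Spec (CommRingCat.of k)}
    [IsProper f] [IsIntegral X] (hdim : topologicalKrullDim X = 1) :
    (closedPoints X).Infinite := by
  intro hfin
  haveI : JacobsonSpace X := LocallyOfFiniteType.jacobsonSpace f
  have hclosed : IsClosed (closedPoints X) := by
    rw [← Set.biUnion_of_singleton (closedPoints X)]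
    exact hfin.isClosed_biUnion fun x hx => hx
  have huniv : closedPoints X = Set.univ := hclosed.closure_eq.symm.trans closure_closedPoints
  haveI : Finite X := Set.finite_univ_iff.1 (huniv ▸ hfin)
  haveI : T1Space X := ⟨fun x => (huniv.ge (Set.mem_univ x) : IsClosed ({x} : Set X))⟩
  haveI : Subsingleton X := ⟨fun a b =>
    (specializes_iff_eq.1 (genericPoint_specializes a)).symm.trans
      (specializes_iff_eq.1 (genericPoint_specializes b))⟩
  haveI : Subsingleton (IrreducibleCloseds X) := ⟨fun a b => by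
    ext x
    obtain ⟨y, hy⟩ := a.2.nonempty
    obtain ⟨z, hz⟩ := b.2.nonempty
    exact ⟨fun _ => Subsingleton.elim z x ▸ hz, fun _ => Subsingleton.elim y x ▸ hy⟩⟩
  have h0 : topologicalKrullDim X ≤ 0 := Order.krullDim_nonpos_iff_forall_isMin.2 fun a b _ => (Subsingleton.elim a b).le
  rw [hdim] at h0
  exact absurd h0 (by decide)

end Groth.Agent.Lib.Secant92
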