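import Groth.Agent.Lib.Secant92.Point
import Groth.Agent.Lib.Secant92.Fin
import Groth.Agent.Lib.TensorMod.FinsetTriv
import Groth.Agent.Lib.Ample.GenLocus
import Groth.Agent.S12131

/-!
# The secant map on rational points
-/

set_option autoImplicit false
set_option backward.isDefEq.respectTransparency false
set_option linter.style.haveILetI false

universe u

open CategoryTheory CategoryTheory.Limits AlgebraicGeometry Opposite TopologicalSpace

noncomputable section

namespace Groth.Agent.Lib.Secant92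

open Groth.Agent.Lib TensorMod TensorMod.Dual TensorMod.Gen

theorem homEquiv_symm_ps {T B : Scheme.{u}} (g : T ⟶ B) {M : B.Modules} {N : T.Modules}
    (φ : M ⟶ (Scheme.Modules.pushforward g).obj N) (t : Γ(M, ⊤)) :
    (((Scheme.Modules.pullbackPushforwardAdjunction g).homEquiv M N).symm φ).app ⊤ (ps g M t) =
      φ.app ⊤ t := by
  have h := ((Scheme.Modules.pullbackPushforwardAdjunction g).homEquiv M N).apply_symm_apply φ
  rw [Adjunction.homEquiv_unit] at h
  exact congr(($h).app ⊤ t)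

theorem counit_ps {X S : Scheme.{u}} (f : X ⟶ S) (L : X.Modules) (s : Γ(L, ⊤)) :
    (TautSh.linSysQuot f L).app ⊤ (ps f ((Scheme.Modules.pushforward f).obj L) s) = s := by
  have h := (Scheme.Modules.pullbackPushforwardAdjunction f).right_triangle_components L
  exact congr(($h).app ⊤ s)

theorem surjective_ps_id {T : Scheme.{u}} (M : T.Modules) : Function.Surjective (ps (𝟙 T) M) := by
  intro y
  refine ⟨((Scheme.Modules.pullbackId T).hom.app M).app ⊤ y, app_inj ((Scheme.Modules.pullbackId T).hom.app M) ?_⟩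
  exact CohDelta.Units.eta_id M ⊤ _

section Restriction

variable {k : Type u} [Field k] {X : Scheme.{u}} {f : X ⟶ Spec (CommRingCat.of k)} [IsProper f]
  {L : X.Modules} (hL : FlatMod.IsFinLocFreeOfRank 1 L)

include hL

/-- An invertible module on a finite closed subscheme is trivial. -/
theorem exists_gen {J : X.IdealSheafData} (hJ : Fin.IsFin f J) :
    ∃ g₀ : Γ((Scheme.Modules.pullback J.subschemeι).obj L, ⊤),
      IsGen ((Scheme.Modules.pullback J.subschemeι).obj L) ⊤ g₀ := by
  haveI := hJ.affine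
  haveI : IsFinite (J.subschemeι ≫ f) := hJ
  let M := (Scheme.Modules.pullback J.subschemeι).obj L
  have hM : FlatMod.IsFinLocFreeOfRank 1 M := TensorMod.LocFree.rank_pullback _ hL
  have hfin : (Set.univ : Set J.subscheme).Finite :=
    ((J.subschemeι ≫ f).finite_preimage_singleton (IsLocalRing.closedPoint k)).subset
      fun x _ => Subsingleton.elim _ _
  obtain ⟨g, e, hg, -, he⟩ := TensorMod.FinsetTriv.exists_basis_basicOpen (isAffineOpen_top J.subscheme) hM
    hfin (Set.subset_univ _) (O := ⊤) (Set.subset_univ _)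
  have htop : J.subscheme.basicOpen g = ⊤ := top_le_iff.1 fun x _ => hg trivial
  let g₀ : Γ(M, ⊤) := rs M htop.ge (e 0)
  refine ⟨g₀, ?_⟩
  show IsGen M ⊤ g₀
  intro V hV
  have hb := he V (hV.trans htop.ge)
  have hsur : Function.Bijective (fun a : Γ(J.subscheme, V) => fun _ : _root_.Fin 1 => a) :=
    (Equiv.funUnique (_root_.Fin 1) _).symm.bijective
  convert hb.comp hsur using 1
  funext a
  simp only [Function.comp_apply, TensorMod.Basis.comb, Fin.sum_univ_one, g₀, rs_rs]

/-- Restriction to a finite closed subscheme, in a trivialisation. -/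
theorem exists_rho {J : X.IdealSheafData} (hJ : Fin.IsFin f J) :
    ∃ ρ : Γ(L, ⊤) →+ Γ(J.subscheme, ⊤),
      (∀ (I : X.IdealSheafData) (h : J ≤ I) (s : Γ(L, ⊤)), ps I.subschemeι L s = 0 ↔ Fin.res h (ρ s) = 0) ∧
      (Function.Surjective (ps J.subschemeι L) → Function.Surjective ρ) := by
  haveI := hJ.affine
  haveI : IsFinite (J.subschemeι ≫ f) := hJ
  let M := (Scheme.Modules.pullback J.subschemeι).obj L
  obtain ⟨g₀, hgen⟩ := exists_gen hL hJ
  have hgb := hgen ⊤ le_rfl
  simp only [rs_self] at hgb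
  let E := Equiv.ofBijective _ hgb
  have hadd : ∀ x y, E.symm (x + y) = E.symm x + E.symm y := fun x y => by
    apply E.injective
    rw [E.apply_symm_apply]
    show _ = (E.symm x + E.symm y) • g₀
    rw [add_smul]
    exact congrArg₂ (· + ·) (E.apply_symm_apply x).symm (E.apply_symm_apply y).symm
  let ρ : Γ(L, ⊤) →+ Γ(J.subscheme, ⊤) :=
    (AddMonoidHom.mk' (fun x => E.symm x) hadd).comp (ps J.subschemeι L)
  have hρ : ∀ s, ρ s • g₀ = ps J.subschemeι L s := fun s => E.apply_symm_apply _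
  refine ⟨ρ, fun I h s => ?_, fun hsurj => E.symm.surjective.comp hsurj⟩
  let i := Scheme.IdealSheafData.inclusion h
  have h1 : ps I.subschemeι L s = 0 ↔ ps i M (ps J.subschemeι L s) = 0 := by
    rw [← ps_comp_zero]
    exact ps_congr_zero (Scheme.IdealSheafData.inclusion_subschemeι h).symm L s
  have hgi : IsGen ((Scheme.Modules.pullback i).obj M) ⊤ (ps i M g₀) :=
    Ample.GenLocus.isGen_unitSec i hgen
  have hgib := hgi ⊤ le_rfl
  simp only [rs_self] at hgib
  rw [h1, ← hρ, ps_smul]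
  constructor
  · intro h0
    exact hgib.1 (h0.trans (zero_smul _ _).symm)
  · intro h0
    exact (congrArg (· • ps i M g₀) h0).trans (zero_smul _ _)

theorem surjective_ps_closed {I J : X.IdealSheafData} (hJ : Fin.IsFin f J) (h : J ≤ I) :
    Function.Surjective (ps (Scheme.IdealSheafData.inclusion h)
      ((Scheme.Modules.pullback J.subschemeι).obj L)) := by
  haveI := hJ.affine
  haveI : IsFinite (J.subschemeι ≫ f) := hJ
  let i := Scheme.IdealSheafData.inclusion h
  let M := (Scheme.Modules.pullback J.subschemeι).obj L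
  obtain ⟨g₀, hgen⟩ := exists_gen hL hJ
  have hgi : IsGen ((Scheme.Modules.pullback i).obj M) ⊤ (ps i M g₀) :=
    Ample.GenLocus.isGen_unitSec i hgen
  have hgib := hgi ⊤ le_rfl
  simp only [rs_self] at hgib
  intro y
  obtain ⟨a, rfl⟩ := hgib.2 y
  obtain ⟨b, rfl⟩ := Fin.res_surjective hJ h a
  exact ⟨b • g₀, ps_smul i M b g₀⟩

/-- Sections vanishing on the intersection of two finite subschemes imposing independent conditions. -/
theorem exists_decomp {Ia Ib : X.IdealSheafData} (ha : Fin.IsFin f Ia) (hb : Fin.IsFin f Ib)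
    (hsurj : Function.Surjective (ps (Ia ⊓ Ib).subschemeι L)) (W : AddSubgroup Γ(L, ⊤))
    (hWa : ∀ s, ps Ia.subschemeι L s = 0 → s ∈ W) (hWb : ∀ s, ps Ib.subschemeι L s = 0 → s ∈ W)
    (s : Γ(L, ⊤)) (hs : ps (Ia ⊔ Ib).subschemeι L s = 0) : s ∈ W := by
  have h := Fin.isFin_inf ha hb
  obtain ⟨ρ, hρ, hρs⟩ := exists_rho hL h
  have h0 := (hρ _ inf_le_sup s).1 hs
  rw [← RingHom.mem_ker, Fin.ker_res_sup h, Submodule.mem_sup] at h0
  obtain ⟨x, hx, y, hy, hxy⟩ := h0
  obtain ⟨t, ht⟩ := hρs hsurj x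
  have h1 : t ∈ W := hWa t ((hρ _ inf_le_left t).2 (by rw [ht]; exact hx))
  have h2 : s - t ∈ W := hWb _ ((hρ _ inf_le_right _).2 (by
    rw [map_sub ρ, ht, ← hxy, add_sub_cancel_left]; exact hy))
  simpa using W.add_mem h1 h2

end Restriction

section Points

variable {k : Type u} [Field k] {X : Scheme.{u}} (f : X ⟶ Spec (CommRingCat.of k))
  (H : Over (Spec (CommRingCat.of k))) {m : ℕ} (Z : HilbD.Obj f m H)
  (L : X.Modules)

/-- The section of the tautological sheaf given by a section of the module. -/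
def ev : Γ((Scheme.Modules.pushforward f).obj L, ⊤) →+ Γ(TautSh.taut f H Z.1 L, ⊤) :=
  ((TautSh.evalMap f H Z.1 L).app ⊤).hom.comp (ps H.hom _)

variable (ξ : Spec (CommRingCat.of k) ⟶ H.left) (hξ : ξ ≫ H.hom = 𝟙 _)

/-- The fibre of the tautological sheaf at a point, on sections. -/
def sig : Γ((Scheme.Modules.pushforward f).obj L, ⊤) →+
    Γ((Scheme.Modules.pullback ξ).obj (TautSh.taut f H Z.1 L), ⊤) :=
  (ps ξ _).comp (ev f H Z L)

/-- The inclusion of the fibre over a point. -/
def jmap : X ⟶ PicF.XT f H :=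
  pullback.lift (𝟙 X) (f ≫ ξ) (by rw [Category.id_comp, Category.assoc, hξ, Category.comp_id])

/-- The subscheme at a point. -/
def idl : X.IdealSheafData := Z.1.comap (jmap f H ξ hξ)

theorem jmap_fst : jmap f H ξ hξ ≫ pullback.fst f H.hom = 𝟙 X := pullback.lift_fst _ _ _

theorem jmap_snd : jmap f H ξ hξ ≫ pullback.snd f H.hom = f ≫ ξ := pullback.lift_snd _ _ _

theorem isPullback_jmap : IsPullback (jmap f H ξ hξ) f (PicF.XTproj f H) ξ := by
  refine IsPullback.of_right (h₁₂ := pullback.fst f H.hom) (v₁₃ := f) (h₂₂ := H.hom) ?_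
    (pullback.lift_snd _ _ _) (IsPullback.of_hasPullback f H.hom)
  rw [jmap_fst, hξ]
  exact IsPullback.of_horiz_isIso ⟨by simp⟩

theorem deg_idl : Fin.IsFin f (idl f H Z ξ hξ) ∧ Fin.len f (idl f H Z ξ hξ) = m :=
  (Fin.deg_iff _ _).1 (HilbD.Basic.finLocFreeOfDeg_comap (isPullback_jmap f H ξ hξ) Z.2)

theorem sig_spec (hL : FlatMod.IsFinLocFreeOfRank 1 L) :
    (∀ s : Γ(L, ⊤), sig f H Z L ξ s = 0 ↔ ps (idl f H Z ξ hξ).subschemeι L s = 0) ∧
    (Function.Surjective (ps (idl f H Z ξ hξ).subschemeι L) → Function.Surjective (sig f H Z L ξ)) := by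
  let q := TautSh.famToX f H Z.1
  let p := TautSh.famToH f H Z.1
  let M := (Scheme.Modules.pullback q).obj L
  let cm := HilbD.Basic.comapMap (jmap f H ξ hξ) Z.1
  let I := idl f H Z ξ hξ
  haveI : IsFinite p := Z.2.1.1
  haveI : L.IsQuasicoherent := TensorMod.QCohInv.isQCoh_of_isFinLocFree (TensorMod.LocFree.of_rank hL)
  haveI : Coh.IsQCoh M := TensorMod.QCohInv.isQCoh_of_isFinLocFree
    (TensorMod.LocFree.of_rank (TensorMod.LocFree.rank_pullback q hL))
  have sq : IsPullback cm (I.subschemeι ≫ f) p ξ :=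
    HilbD.Basic.isPullback_comap_proj (isPullback_jmap f H ξ hξ) Z.1
  haveI hiso := Groth.Agent.S12131.result p ξ cm (I.subschemeι ≫ f) sq M
  have hq : cm ≫ q = I.subschemeι := by
    show cm ≫ Z.1.subschemeι ≫ pullback.fst f H.hom = _
    rw [← Category.assoc, (HilbD.Basic.isPullback_comapMap (jmap f H ξ hξ) Z.1).w, Category.assoc]
    refine (congrArg (_ ≫ ·) (jmap_fst f H ξ hξ)).trans ?_
    rw [Category.comp_id]
    rfl
  set β := ((Scheme.Modules.pullbackPushforwardAdjunction ξ).homEquiv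
    ((Scheme.Modules.pushforward p).obj M)
    ((Scheme.Modules.pushforward (I.subschemeι ≫ f)).obj ((Scheme.Modules.pullback cm).obj M))).symm
    ((Scheme.Modules.pushforward p).map ((Scheme.Modules.pullbackPushforwardAdjunction cm).unit.app M) ≫
      (Scheme.Modules.pushforwardComp cm p).hom.app _ ≫
      (Scheme.Modules.pushforwardCongr sq.w).hom.app _ ≫
      (Scheme.Modules.pushforwardComp (I.subschemeι ≫ f) ξ).inv.app _) with hβ
  have hev : ∀ s : Γ(L, ⊤), ev f H Z L s = ps q L s := fun s => by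
    refine (homEquiv_symm_ps H.hom (TautSh.pushEval f H Z.1 L)
      (show Γ((Scheme.Modules.pushforward f).obj L, ⊤) from s)).trans ?_
    simp only [TautSh.pushEval, Scheme.Modules.Hom.comp_app, ConcreteCategory.comp_apply,
      Scheme.Modules.pushforwardComp_hom_app_app, Scheme.Modules.pushforwardComp_inv_app_app,
      Scheme.Modules.pushforwardCongr_hom_app_app]
    exact rs_self M le_rfl (ps q L s)
  have hβv : ∀ t : Γ(M, ⊤), β.app ⊤ (ps ξ ((Scheme.Modules.pushforward p).obj M) t) = ps cm M t :=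
      fun t => by
    rw [hβ]
    refine (homEquiv_symm_ps ξ (M := (Scheme.Modules.pushforward p).obj M) _ t).trans ?_
    simp only [Scheme.Modules.Hom.comp_app, ConcreteCategory.comp_apply,
      Scheme.Modules.pushforwardComp_hom_app_app, Scheme.Modules.pushforwardComp_inv_app_app,
      Scheme.Modules.pushforwardCongr_hom_app_app]
    exact rs_self _ le_rfl (ps cm M t)
  let γ : (Scheme.Modules.pullback cm).obj M ≅ (Scheme.Modules.pullback I.subschemeι).obj L :=
    (Scheme.Modules.pullbackComp cm q).app L ≪≫ (Scheme.Modules.pullbackCongr hq).app L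
  have hγ : ∀ s : Γ(L, ⊤), γ.hom.app ⊤ (ps cm M (ps q L s)) = ps I.subschemeι L s := fun s => by
    show ((Scheme.Modules.pullbackCongr hq).hom.app L).app ⊤
      (((Scheme.Modules.pullbackComp cm q).hom.app L).app ⊤ (ps cm M (ps q L s))) = _
    rw [ps_comp, ps_congr]
  have key : ∀ s : Γ(L, ⊤), γ.hom.app ⊤ (β.app ⊤ (sig f H Z L ξ s)) = ps I.subschemeι L s := fun s => by
    show γ.hom.app ⊤ (β.app ⊤ (ps ξ _ (ev f H Z L s))) = _
    rw [hev, hβv, hγ]
  refine ⟨fun s => ?_, fun hs y => ?_⟩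
  · rw [← key, app_eq_zero_iff]
    exact (app_eq_zero_iff β _).symm
  · obtain ⟨s, hs⟩ := hs (γ.hom.app ⊤ (β.app ⊤ y))
    refine ⟨s, app_inj β (app_inj γ.hom ?_)⟩
    rw [key, hs]

variable {f H Z}

/-- The subscheme determines the point. -/
theorem eq_of_idl (hU : HilbD.IsUniversal f m H Z)
    {ξ ξ' : Spec (CommRingCat.of k) ⟶ H.left} (hξ : ξ ≫ H.hom = 𝟙 _) (hξ' : ξ' ≫ H.hom = 𝟙 _)
    (h : idl f H Z ξ hξ = idl f H Z ξ' hξ') : ξ = ξ' := by
  let T : Over (Spec (CommRingCat.of k)) := Over.mk (𝟙 _)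
  have hm : ∀ (η : Spec (CommRingCat.of k) ⟶ H.left) (hη : η ≫ H.hom = 𝟙 _),
      PicF.XTmap f (Over.homMk η hη : T ⟶ H) = pullback.fst f T.hom ≫ jmap f H η hη := fun η hη => by
    apply pullback.hom_ext
    · rw [HilbD.Basic.XTmap_fst, Category.assoc, jmap, pullback.lift_fst, Category.comp_id]
    · refine (HilbD.Basic.XTmap_snd f _).trans ?_
      rw [Category.assoc, jmap, pullback.lift_snd, pullback.condition_assoc]
      simp [T]
      rfl
  have := HilbD.Basic.hom_ext f hU (T := T) (g₁ := Over.homMk ξ hξ) (g₂ := Over.homMk ξ' hξ') (by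
    rw [HilbD.Basic.pull_eq_comap, HilbD.Basic.pull_eq_comap, hm, hm,
      Scheme.IdealSheafData.comap_comp, Scheme.IdealSheafData.comap_comp]
    exact congrArg (fun K : X.IdealSheafData => K.comap (pullback.fst f T.hom)) h)
  exact congrArg CommaMorphism.left this

theorem exists_point (hU : HilbD.IsUniversal f m H Z) [IsProper f]
    {I : X.IdealSheafData} (hI : Fin.IsFin f I) (hl : Fin.len f I = m) :
    ∃ (ξ : Spec (CommRingCat.of k) ⟶ H.left) (hξ : ξ ≫ H.hom = 𝟙 _), idl f H Z ξ hξ = I := by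
  let T : Over (Spec (CommRingCat.of k)) := Over.mk (𝟙 _)
  have sq : IsPullback (pullback.fst f T.hom) (pullback.snd f T.hom) f (𝟙 _) :=
    IsPullback.of_hasPullback _ _
  let Z' : HilbD.Obj f m T := ⟨I.comap (pullback.fst f T.hom),
    HilbD.Basic.finLocFreeOfDeg_comap sq ((Fin.deg_iff _ _).2 ⟨hI, hl⟩)⟩
  obtain ⟨g, hg, -⟩ := hU T Z'
  have hξ : g.left ≫ H.hom = 𝟙 _ := Over.w g
  refine ⟨g.left, hξ, ?_⟩
  let sec : X ⟶ PicF.XT f T := pullback.lift (𝟙 X) f (by simp [T])
  have h1 : sec ≫ PicF.XTmap f g = jmap f H g.left hξ := by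
    apply pullback.hom_ext
    · rw [Category.assoc, HilbD.Basic.XTmap_fst]
      exact (pullback.lift_fst (f := f) (g := T.hom) (𝟙 X) f (by simp [T])).trans (jmap_fst f H g.left hξ).symm
    · rw [Category.assoc]
      refine (congrArg (sec ≫ ·) (HilbD.Basic.XTmap_snd f g)).trans ?_
      rw [jmap, pullback.lift_snd, ← Category.assoc]
      exact congrArg (· ≫ g.left) (pullback.lift_snd (f := f) (g := T.hom) (𝟙 X) f (by simp [T]))
  have h2 : sec ≫ pullback.fst f T.hom = 𝟙 X := pullback.lift_fst (f := f) (g := T.hom) (𝟙 X) f (by simp [T])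
  rw [idl, ← h1, Scheme.IdealSheafData.comap_comp, ← HilbD.Basic.pull_eq_comap, hg]
  show (I.comap _).comap sec = I
  rw [← Scheme.IdealSheafData.comap_comp, h2, Scheme.IdealSheafData.comap_id]

variable {L}
variable {PE : Scheme.{u}} {πE : PE ⟶ H.left} {OE : PE.Modules}
  {qE : (Scheme.Modules.pullback πE).obj (TautSh.taut f H Z.1 L) ⟶ OE}

theorem secant_val_zero {P : Scheme.{u}} {π : P ⟶ Spec (CommRingCat.of k)} {O1 : P.Modules}
    {qP : (Scheme.Modules.pullback π).obj ((Scheme.Modules.pushforward f).obj L) ⟶ O1} {h : PE ⟶ P}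
    (hh : TautSh.IsMapOfQuot π ((Scheme.Modules.pushforward f).obj L) O1 qP (πE ≫ H.hom) OE
      (TautSh.secantQuot f H Z.1 L πE OE qE) h)
    (a : Spec (CommRingCat.of k) ⟶ PE) (s : Γ((Scheme.Modules.pushforward f).obj L, ⊤)) :
    val (a ≫ h) qP s = 0 ↔ val a qE (ev f H Z L s) = 0 := by
  rw [val_zero_iff hh a s]
  have h1 : (TautSh.secantQuot f H Z.1 L πE OE qE).app ⊤ (ps (πE ≫ H.hom) _ s) =
      qE.app ⊤ (ps πE _ (ev f H Z L s)) := by
    simp only [TautSh.secantQuot, Scheme.Modules.Hom.comp_app, ConcreteCategory.comp_apply]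
    rw [ps_comp']
    exact congrArg (qE.app ⊤) (ps_nat πE (TautSh.evalMap f H Z.1 L) _)
  rw [h1]
  rfl

end Points

end Groth.Agent.Lib.Secant92
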