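import Groth.Agent.Lib.Secant92.Sec
import Groth.Agent.Lib.Cyc.PB.Univ
import Groth.Agent.Lib.Modules.TensorSec

/-!
# Modules on the spectrum of a field, and rational points of projective bundles
-/

set_option autoImplicit false
set_option backward.isDefEq.respectTransparency false
set_option linter.style.haveILetI false

universe u

open CategoryTheory CategoryTheory.Limits AlgebraicGeometry Opposite TopologicalSpace

noncomputable section

namespace Groth.Agent.Lib.Secant92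

open Groth.Agent.Lib TensorMod TensorMod.Dual TensorMod.Gen

variable (k : Type u) [Field k]

/-- The spectrum of the field. -/
abbrev Pt : Scheme.{u} := Spec (CommRingCat.of k)

variable {k}

theorem opens_pt (U : (Pt k).Opens) : U = ⊤ ∨ U = ⊥ := by
  rcases Classical.em (∃ x, x ∈ U) with ⟨x, hx⟩ | h
  · left
    ext y
    simp [Subsingleton.elim y x, hx]
  · right
    ext y
    simp only [SetLike.mem_coe, Opens.coe_bot, Set.mem_empty_iff_false, iff_false]
    exact fun hy => h ⟨y, hy⟩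

theorem subsingleton_bot {T : Scheme.{u}} (N : T.Modules) : Subsingleton Γ(N, (⊥ : T.Opens)) :=
  ⟨fun a b => Modules.TensorSec.section_ext N a b fun _ hx => hx.elim⟩

theorem isUnit_pt (r : Γ(Pt k, ⊤)) (hr : r ≠ 0) : IsUnit r := by
  let e := (Scheme.ΓSpecIso (CommRingCat.of k)).commRingCatIsoToRingEquiv
  have h : e r ≠ 0 := fun h => hr (e.injective (h.trans (map_zero e).symm))
  exact (isUnit_map_iff e r).1 (isUnit_iff_ne_zero.2 h)

theorem hom_ext_pt {M N : (Pt k).Modules} {φ ψ : M ⟶ N} (h : ∀ x, φ.app ⊤ x = ψ.app ⊤ x) : φ = ψ := by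
  refine Scheme.Modules.hom_ext _ _ fun U => ?_
  rcases opens_pt U with rfl | rfl
  · exact ConcreteCategory.hom_ext _ _ h
  · refine ConcreteCategory.hom_ext _ _ fun x => ?_
    exact (subsingleton_bot N).elim _ _

theorem epi_pt {M N : (Pt k).Modules} {φ : M ⟶ N} (h : Function.Surjective (φ.app ⊤)) : Epi φ :=
  ⟨fun {Z} a b hab => hom_ext_pt fun x => by
    obtain ⟨y, rfl⟩ := h x
    rw [← ConcreteCategory.comp_apply, ← ConcreteCategory.comp_apply, ← Scheme.Modules.Hom.comp_app,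
      ← Scheme.Modules.Hom.comp_app, hab]⟩

theorem exists_hom_pt {M N : (Pt k).Modules} (f : Γ(M, ⊤) →+ Γ(N, ⊤))
    (hf : ∀ (r : Γ(Pt k, ⊤)) x, f (r • x) = r • f x) :
    ∃ φ : M ⟶ N, ∀ x, φ.app ⊤ x = f x := by
  classical
  let g : ∀ U : (Pt k).Opens, Γ(M, U) →+ Γ(N, U) := fun U =>
    if h : (⊤ : (Pt k).Opens) ≤ U then
      (N.presheaf.map (homOfLE le_top).op).hom.comp (f.comp (M.presheaf.map (homOfLE h).op).hom)
    else 0
  have gtop : ∀ x, g ⊤ x = f x := fun x => by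
    show (dite ((⊤ : (Pt k).Opens) ≤ ⊤) _ _ : Γ(M, ⊤) →+ Γ(N, ⊤)) x = _
    rw [dif_pos le_rfl]
    show rs N le_top (f (rs M le_rfl x)) = _
    rw [rs_self, rs_self]
  refine ⟨⟨PresheafOfModules.homMk
    { app := fun U => AddCommGrpCat.ofHom (g U.unop)
      naturality := fun U V i => ?_ } ?_⟩, fun x => gtop x⟩
  · refine ConcreteCategory.hom_ext _ _ fun x => ?_
    induction U using Opposite.rec with | op U =>
    induction V using Opposite.rec with | op V =>
    rcases opens_pt V with rfl | rfl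
    · obtain rfl : U = ⊤ := top_le_iff.1 i.unop.le
      rw [show i = 𝟙 _ from Subsingleton.elim _ _]
      simp only [CategoryTheory.Functor.map_id]
      rfl
    · exact (subsingleton_bot N).elim _ _
  · intro U
    induction U using Opposite.rec with | op U =>
    intro r x
    show g U ((show Γ(Pt k, U) from r) • (show Γ(M, U) from x)) =
      (show Γ(Pt k, U) from r) • g U (show Γ(M, U) from x)
    rcases opens_pt U with rfl | rfl
    · rw [gtop, gtop, hf]
    · exact (subsingleton_bot N).elim _ _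

theorem exists_gen_pt {L : (Pt k).Modules} (hL : FlatMod.IsFinLocFreeOfRank 1 L) :
    ∃ g : Γ(L, ⊤), Function.Bijective fun r : Γ(Pt k, ⊤) => r • g := by
  obtain ⟨U, e, hx, he⟩ := (Gen.isInvertible_iff).1 (TensorMod.LocFree.isInvertible_of_rank_one hL)
    (IsLocalRing.closedPoint k)
  obtain rfl : U = ⊤ := (opens_pt U).resolve_right fun h => by subst h; exact hx
  refine ⟨e, ?_⟩
  have := he ⊤ le_rfl
  simpa only [rs_self] using this

theorem gen_ne_zero {L : (Pt k).Modules} {g : Γ(L, ⊤)}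
    (hg : Function.Bijective fun r : Γ(Pt k, ⊤) => r • g) : g ≠ 0 := by
  intro h
  have h1 := @hg.1 1 0 (by simp only [h, smul_zero])
  have h2 := congrArg (Scheme.ΓSpecIso (CommRingCat.of k)).commRingCatIsoToRingEquiv h1
  rw [map_one, map_zero] at h2
  exact one_ne_zero h2

theorem exists_app_ne_zero {M L : (Pt k).Modules} (hL : FlatMod.IsFinLocFreeOfRank 1 L) (φ : M ⟶ L)
    [Epi φ] : ∃ x, φ.app ⊤ x ≠ 0 := by
  by_contra! h
  obtain ⟨g, hg⟩ := exists_gen_pt hL
  have h0 : φ = 0 := hom_ext_pt fun x => by rw [h x]; rfl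
  have h1 : (𝟙 L : L ⟶ L) = 0 := (cancel_epi φ).1 (by rw [h0, zero_comp, zero_comp])
  exact gen_ne_zero hg (congr(($h1).app ⊤ g))

/-- Quotients onto invertible modules with the same kernel agree up to an isomorphism. -/
theorem exists_iso_of_ker {M L L' : (Pt k).Modules} (hL : FlatMod.IsFinLocFreeOfRank 1 L)
    (hL' : FlatMod.IsFinLocFreeOfRank 1 L') (φ : M ⟶ L) (ψ : M ⟶ L') [Epi φ] [Epi ψ]
    (h : ∀ x, φ.app ⊤ x = 0 → ψ.app ⊤ x = 0) : ∃ e : L ≅ L', φ ≫ e.hom = ψ := by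
  obtain ⟨g, hg⟩ := exists_gen_pt hL
  obtain ⟨g', hg'⟩ := exists_gen_pt hL'
  obtain ⟨x₀, hx₀⟩ := exists_app_ne_zero hL φ
  obtain ⟨r₀, hr₀⟩ := hg.2 (φ.app ⊤ x₀)
  dsimp only at hr₀
  obtain ⟨u₀, hu₀⟩ := isUnit_pt r₀ (fun h0 => hx₀ (by rw [← hr₀, h0, zero_smul]))
  let x₁ : Γ(M, ⊤) := (↑u₀⁻¹ : Γ(Pt k, ⊤)) • x₀
  have hx₁ : φ.app ⊤ x₁ = g := by
    rw [Scheme.Modules.Hom.app_smul, ← hr₀, ← hu₀, smul_smul, Units.inv_mul, one_smul]
  obtain ⟨c, hc⟩ := hg'.2 (ψ.app ⊤ x₁)
  dsimp only at hc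
  have key : ∀ (x : Γ(M, ⊤)) (r : Γ(Pt k, ⊤)), φ.app ⊤ x = r • g → ψ.app ⊤ x = r • c • g' := by
    intro x r hr
    have h0 : φ.app ⊤ (x - r • x₁) = 0 := by
      rw [map_sub, Scheme.Modules.Hom.app_smul, hx₁, hr, sub_self]
    have h1 := h _ h0
    rwa [map_sub, Scheme.Modules.Hom.app_smul, ← hc, sub_eq_zero] at h1
  have hc0 : c ≠ 0 := by
    intro hc0
    obtain ⟨y, hy⟩ := exists_app_ne_zero hL' ψ
    obtain ⟨r, hr⟩ := hg.2 (φ.app ⊤ y)
    exact hy (by rw [key y r hr.symm, hc0, zero_smul, smul_zero])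
  obtain ⟨v, hv⟩ := isUnit_pt c hc0
  have mk : ∀ {A A' : (Pt k).Modules} (a : Γ(A, ⊤)) (a' : Γ(A', ⊤))
      (_ : Function.Bijective fun r : Γ(Pt k, ⊤) => r • a),
      ∃ α : A ⟶ A', ∀ r : Γ(Pt k, ⊤), α.app ⊤ (r • a) = r • a' := by
    intro A A' a a' ha
    let e := Equiv.ofBijective _ ha
    have he : ∀ r : Γ(Pt k, ⊤), e.symm (r • a) = r := fun r => e.symm_apply_apply r
    have hlin : ∀ (r : Γ(Pt k, ⊤)) x, e.symm (r • x) = r * e.symm x := fun r x => by
      conv_lhs => rw [← e.apply_symm_apply x]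
      show e.symm (r • (e.symm x • a)) = _
      rw [smul_smul, he]
    have hadd : ∀ x y, e.symm (x + y) = e.symm x + e.symm y := fun x y => by
      conv_lhs => rw [← e.apply_symm_apply x, ← e.apply_symm_apply y]
      show e.symm (e.symm x • a + e.symm y • a) = _
      rw [← add_smul, he]
    obtain ⟨α, hα⟩ := exists_hom_pt (AddMonoidHom.mk' (fun x => e.symm x • a')
      fun x y => by rw [hadd, add_smul]) fun r x => by
        show e.symm (r • x) • a' = r • e.symm x • a'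
        rw [hlin, mul_smul]
    exact ⟨α, fun r => by rw [hα]; show e.symm (r • a) • a' = _; rw [he]⟩
  obtain ⟨α, hα⟩ := mk g (c • g') hg
  obtain ⟨β, hβ⟩ := mk g' ((↑v⁻¹ : Γ(Pt k, ⊤)) • g) hg'
  have hαβ : α ≫ β = 𝟙 L := hom_ext_pt fun x => by
    obtain ⟨r, rfl⟩ := hg.2 x
    simp only [Scheme.Modules.Hom.comp_app, ConcreteCategory.comp_apply]
    rw [hα, smul_smul, hβ, ← hv, smul_smul, mul_assoc, Units.mul_inv, mul_one]
    rfl
  have hβα : β ≫ α = 𝟙 L' := hom_ext_pt fun x => by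
    obtain ⟨r, rfl⟩ := hg'.2 x
    simp only [Scheme.Modules.Hom.comp_app, ConcreteCategory.comp_apply]
    rw [hβ, smul_smul, hα, ← hv, smul_smul, mul_assoc, Units.inv_mul, mul_one]
    rfl
  refine ⟨⟨α, β, hαβ, hβα⟩, hom_ext_pt fun x => ?_⟩
  obtain ⟨r, hr⟩ := hg.2 (φ.app ⊤ x)
  simp only [Scheme.Modules.Hom.comp_app, ConcreteCategory.comp_apply]
  rw [← hr, hα, key x r hr.symm]

section Bundle

variable {B P : Scheme.{u}} {π : P ⟶ B} {V : B.Modules} {O1 : P.Modules}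
  {q : (Scheme.Modules.pullback π).obj V ⟶ O1}

theorem epi_quot {T : Scheme.{u}} (hP : KRR.IsProjBundle π V O1 q) (x : T ⟶ P) {g : T ⟶ B}
    (hx : x ≫ π = g) : Epi (quot q x hx) := by
  haveI := hP.epi
  unfold quot
  infer_instance

/-- A rational point of a bundle is determined by the kernel of its quotient. -/
theorem pb_ext (hP : KRR.IsProjBundle π V O1 q) {g : Pt k ⟶ B}
    (hg : Function.Surjective (ps g V)) {x y : Pt k ⟶ P} (hx : x ≫ π = g) (hy : y ≫ π = g)
    (h : ∀ v, val x q v = 0 → val y q v = 0) : x = y := by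
  haveI := epi_quot hP x hx
  haveI := epi_quot hP y hy
  obtain ⟨e, he⟩ := exists_iso_of_ker (TensorMod.LocFree.rank_pullback x hP.invertible)
    (TensorMod.LocFree.rank_pullback y hP.invertible) (quot q x hx) (quot q y hy) fun z hz => by
      obtain ⟨v, rfl⟩ := hg z
      rw [quot_ps] at hz ⊢
      exact h v hz
  refine (hP.univ _ g _ (TensorMod.LocFree.rank_pullback y hP.invertible) (quot q y hy)
    inferInstance).unique ⟨hx, e, ?_⟩ ⟨hy, Iso.refl _, ?_⟩
  · rw [← he]; simp only [quot, Category.assoc]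
  · simp only [quot, Iso.refl_hom, Category.comp_id]

/-- A rational point of a bundle with prescribed kernel. -/
theorem pb_exists (hP : KRR.IsProjBundle π V O1 q) {g : Pt k ⟶ B}
    (l : Γ((Scheme.Modules.pullback g).obj V, ⊤) →+ Γ(Pt k, ⊤))
    (hl : ∀ (r : Γ(Pt k, ⊤)) x, l (r • x) = r * l x) (hne : ∃ x, l x ≠ 0) :
    ∃ x : Pt k ⟶ P, x ≫ π = g ∧ ∀ v, val x q v = 0 ↔ l (ps g V v) = 0 := by
  let O := Coh.structureModule (Pt k)
  obtain ⟨φ, hφ⟩ := exists_hom_pt (M := (Scheme.Modules.pullback g).obj V) (N := O) l hl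
  haveI : Epi φ := epi_pt fun y => by
    obtain ⟨x₀, hx₀⟩ := hne
    obtain ⟨v, hv⟩ := isUnit_pt _ hx₀
    have h1 : l (((show Γ(Pt k, ⊤) from y) * ↑v⁻¹) • x₀) = (show Γ(Pt k, ⊤) from y) := by
      rw [hl, ← hv, mul_assoc, Units.inv_mul, mul_one]
    exact ⟨_, (hφ _).trans h1⟩
  obtain ⟨x, ⟨hx, e, he⟩, -⟩ := hP.univ _ g O (Cyc.PB.Univ.rank_one_structure _) φ inferInstance
  refine ⟨x, hx, fun v => ?_⟩
  have h2 : quot q x hx ≫ e.hom = φ := by rw [← he]; simp only [quot, Category.assoc]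
  have h1 : e.hom.app ⊤ (val x q v) = l (ps g V v) := by
    refine Eq.trans ?_ (hφ _)
    rw [← h2, ← quot_ps x hx]
    rfl
  rw [← app_eq_zero_iff e.hom]
  exact ⟨fun h => h1.symm.trans h, fun h => h1.trans h⟩

end Bundle

end Groth.Agent.Lib.Secant92
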