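import Groth.Prelude.Def_TautSec
import Groth.Agent.Lib.CohDelta.Units
import Groth.Agent.Lib.Cyc.PB.Univ

/-!
# Global sections under inverse image, and morphisms classifying quotients
-/

set_option autoImplicit false
set_option backward.isDefEq.respectTransparency false
set_option linter.style.haveILetI false

universe u

open CategoryTheory CategoryTheory.Limits AlgebraicGeometry Opposite

noncomputable section

namespace Groth.Agent.Lib.Secant92

variable {T T' B P Q : Scheme.{u}}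

/-- The inverse image of global sections. -/
def ps (g : T ⟶ B) (M : B.Modules) : Γ(M, ⊤) →+ Γ((Scheme.Modules.pullback g).obj M, ⊤) :=
  (((Scheme.Modules.pullbackPushforwardAdjunction g).unit.app M).app ⊤).hom

theorem ps_nat (g : T ⟶ B) {M N : B.Modules} (φ : M ⟶ N) (s : Γ(M, ⊤)) :
    ((Scheme.Modules.pullback g).map φ).app ⊤ (ps g M s) = ps g N (φ.app ⊤ s) :=
  CohDelta.Units.eta_map g φ ⊤ s

theorem ps_comp (g : T' ⟶ T) (h : T ⟶ B) (M : B.Modules) (s : Γ(M, ⊤)) :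
    ((Scheme.Modules.pullbackComp g h).hom.app M).app ⊤ (ps g _ (ps h M s)) = ps (g ≫ h) M s :=
  CohDelta.Units.comp_eta g h M ⊤ s

theorem ps_comp' (g : T' ⟶ T) (h : T ⟶ B) (M : B.Modules) (s : Γ(M, ⊤)) :
    ((Scheme.Modules.pullbackComp g h).inv.app M).app ⊤ (ps (g ≫ h) M s) = ps g _ (ps h M s) :=
  (CohDelta.Units.eta_comp g h M ⊤ s).symm

theorem ps_congr {g g' : T ⟶ B} (e : g = g') (M : B.Modules) (s : Γ(M, ⊤)) :
    ((Scheme.Modules.pullbackCongr e).hom.app M).app ⊤ (ps g M s) = ps g' M s := by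
  subst e; rfl

theorem ps_congr' {g g' : T ⟶ B} (e : g = g') (M : B.Modules) (s : Γ(M, ⊤)) :
    ((Scheme.Modules.pullbackCongr e).inv.app M).app ⊤ (ps g' M s) = ps g M s := by
  subst e; rfl

theorem ps_smul (g : T ⟶ B) (M : B.Modules) (r : Γ(B, ⊤)) (s : Γ(M, ⊤)) :
    ps g M (r • s) = (show Γ(T, ⊤) from g.app ⊤ r) • ps g M s :=
  Scheme.Modules.Hom.app_smul ((Scheme.Modules.pullbackPushforwardAdjunction g).unit.app M) r s

theorem app_inj {M N : T.Modules} (φ : M ⟶ N) [IsIso φ] :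
    Function.Injective (φ.app ⊤) :=
  (ConcreteCategory.bijective_of_isIso (φ.app ⊤)).injective

theorem app_eq_zero_iff {M N : T.Modules} (φ : M ⟶ N) [IsIso φ] (s : Γ(M, ⊤)) :
    φ.app ⊤ s = 0 ↔ s = 0 := by
  conv_lhs => rw [← map_zero (φ.app ⊤).hom]
  exact (app_inj φ).eq_iff

theorem ps_comp_zero (g : T' ⟶ T) (h : T ⟶ B) (M : B.Modules) (s : Γ(M, ⊤)) :
    ps (g ≫ h) M s = 0 ↔ ps g _ (ps h M s) = 0 := by
  rw [← ps_comp]
  exact app_eq_zero_iff _ _

theorem ps_congr_zero {g g' : T ⟶ B} (e : g = g') (M : B.Modules) (s : Γ(M, ⊤)) :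
    ps g M s = 0 ↔ ps g' M s = 0 := by
  subst e; rfl

theorem ps_zero_of_comp (g : T' ⟶ T) (h : T ⟶ B) (M : B.Modules) (s : Γ(M, ⊤))
    (hs : ps h M s = 0) : ps (g ≫ h) M s = 0 := by
  rw [ps_comp_zero, hs, map_zero]

theorem ps_iso_zero (g : T' ⟶ T) {M N : T.Modules} (φ : M ≅ N) (s : Γ(M, ⊤)) :
    ps g N (φ.hom.app ⊤ s) = 0 ↔ ps g M s = 0 := by
  rw [← ps_nat]
  exact app_eq_zero_iff _ _

variable {π : P ⟶ B} {V : B.Modules} {O1 : P.Modules} {q : (Scheme.Modules.pullback π).obj V ⟶ O1}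

/-- The quotient at a point of the bundle, evaluated on a section. -/
def val (x : T ⟶ P) (q : (Scheme.Modules.pullback π).obj V ⟶ O1) :
    Γ(V, ⊤) →+ Γ((Scheme.Modules.pullback x).obj O1, ⊤) :=
  (ps x O1).comp ((q.app ⊤).hom.comp (ps π V))

/-- The quotient at a point of the bundle. -/
def quot (q : (Scheme.Modules.pullback π).obj V ⟶ O1) (x : T ⟶ P) {g : T ⟶ B} (hx : x ≫ π = g) :
    (Scheme.Modules.pullback g).obj V ⟶ (Scheme.Modules.pullback x).obj O1 :=
  (Scheme.Modules.pullbackCongr hx).inv.app V ≫ (Scheme.Modules.pullbackComp x π).inv.app V ≫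
    (Scheme.Modules.pullback x).map q

theorem quot_ps (x : T ⟶ P) {g : T ⟶ B} (hx : x ≫ π = g) (v : Γ(V, ⊤)) :
    (quot q x hx).app ⊤ (ps g V v) = val x q v := by
  simp only [quot, Scheme.Modules.Hom.comp_app, ConcreteCategory.comp_apply]
  rw [ps_congr' hx, ps_comp']
  exact ps_nat x q _

/-- Vanishing of the classified quotient on a pulled back section. -/
theorem val_zero_iff {g : T ⟶ B} {L : T.Modules} {s : (Scheme.Modules.pullback g).obj V ⟶ L}
    {h : T ⟶ P} (hh : TautSh.IsMapOfQuot π V O1 q g L s h) (a : T' ⟶ T) (v : Γ(V, ⊤)) :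
    val (a ≫ h) q v = 0 ↔ ps a L (s.app ⊤ (ps g V v)) = 0 := by
  obtain ⟨hg, e, he⟩ := hh
  have h1 : s.app ⊤ (ps g V v) = e.hom.app ⊤ (val h q v) := by
    rw [← he, ← quot_ps h hg]
    simp only [quot, Scheme.Modules.Hom.comp_app, ConcreteCategory.comp_apply]
  rw [h1, ps_iso_zero a e]
  exact ps_comp_zero a h O1 _

end Groth.Agent.Lib.Secant92
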